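import Cfsg.Agent.ThH99.Perm
import Cfsg.Agent.CosetEnum.Orbit
import Cfsg.Agent.ThH99.CU.Upper
import Cfsg.Agent.ThH99.CAcde.Upper
import Cfsg.Agent.ThH99.CW.Upper
import Cfsg.Agent.ThH99.CP.Upper
import Cfsg.Agent.ThH99.CDes.Upper
import Cfsg.Agent.ThH99.CL.Upper

/-!
Orders in any group satisfying the relations: `⟨a, b, c, d, e⟩` has order at most 12096,
`⟨a, b, c, d, e, s⟩` at most 211341312 and, with `t`, at most 634023936.
-/

set_option autoImplicit false

namespace CfsgLib.ThH99

open CfsgLib.CosetEnum Cfsg.Spor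

variable {X : Type*} [Group X]

/-- the checks that connect a certificate on the letters `al` to global letters -/
def certOK (al : List ℕ) (C : CertData) (base : List (List ℕ)) (kBig kSmall : List ℕ) : Bool :=
  (allBelow (fun i => (iv i).blt al.length &&
      Nat.beq (al.getD (iv i) 16) (iv (al.getD i 16))) al.length) &&
    Nat.beq C.L al.length && Nat.beq (al.length % 2) 0 &&
    (C.words.all fun w => w.all fun x => x.blt al.length) &&
    (wordsFrom iv base ((C.words.take C.nr).map fun w => w.map fun x => al.getD x 16)) &&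
    (C.words.all fun w => (base.contains (w.map fun x => al.getD x 16)) ||
      (base.contains ((w.map fun x => al.getD x 16).reverse.map iv)) ||
      (w.all fun x => kSmall.contains (al.getD x 16) || kSmall.contains (iv (al.getD x 16)))) &&
    (kBig.all fun x => al.contains x) &&
    (kSmall.all fun x => kBig.contains x) &&
    (al.all fun x => kBig.contains x || kBig.contains (iv x))

theorem card_step {H K : Subgroup X} (hle : H ≤ K) {m n : ℕ}
    (hH : Nat.card H ≤ n ∧ Nat.card H ≠ 0) (hi : H.relIndex K ≤ m ∧ H.relIndex K ≠ 0) :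
    Nat.card K ≤ m * n ∧ Nat.card K ≠ 0 := by
  have h := (H.subgroupOf K).card_mul_index
  rw [Nat.card_congr (Subgroup.subgroupOfEquivOfLe hle).toEquiv] at h
  rw [← h]
  refine ⟨?_, Nat.mul_ne_zero hH.2 hi.2⟩
  rw [Nat.mul_comm m n]
  exact Nat.mul_le_mul hH.1 hi.1

/-- The index bound given by a certificate on some of the letters. -/
theorem relIndex_cert {C : CertData} {N : ℕ} (hN : FactsChecked C.ep C.iv C.words C.nr N)
    (hn : 0 < C.n) (h0 : C.node 0 = 0)
    (hrow : ∀ i < C.n, checkRow C.ep C.iv N C.L C.node C.T C.tf C.n i = true)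
    (hiv : C.iv = fun x => x ^^^ 1) (al : List ℕ) (base : List (List ℕ)) (kBig kSmall : List ℕ)
    (hok : certOK al C base kBig kSmall = true) (v : Th.Gen → X)
    (hbase : ∀ w ∈ base, gword (lv v) w = 1) :
    sub v kSmall ≤ sub v kBig ∧
      ((sub v kSmall).relIndex (sub v kBig) ≤ C.n ∧
        (sub v kSmall).relIndex (sub v kBig) ≠ 0) := by
  simp only [certOK, Bool.and_eq_true, Bool.or_eq_true, List.all_eq_true, Model.allBelow_iff,
    Nat.blt, Nat.ble_eq, Nat.beq_eq, List.contains_iff_mem] at hok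
  obtain ⟨⟨⟨⟨⟨⟨⟨⟨hal, hL⟩, heven⟩, hlt⟩, hfrom⟩, hwords⟩, hbig⟩, hsmall⟩, hal2⟩ := hok
  let g : ℕ → X := letterVal al.length fun i => lv v (al.getD i 16)
  have hg : ∀ x, g (C.iv x) = (g x)⁻¹ := fun x => by
    rw [hiv]
    refine letterVal_inv al.length _ (fun x => x ^^^ 1) (fun y hy => ⟨(hal y hy).1, ?_⟩)
      (fun y hy => iv_ge heven hy) x
    show lv v (al.getD (iv y) 16) = _
    rw [(hal y hy).2, lv_iv]
  have hgw : ∀ w ∈ C.words, gword g w = gword (lv v) (w.map fun x => al.getD x 16) := fun w hw => by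
    rw [gword_letterVal _ (hlt w hw), gword, gword, List.map_map]
    rfl
  have hrel : ∀ (k : ℕ) (w : List ℕ), C.words[k]? = some w → k < C.nr → gword g w = 1 := by
    intro k w hk hlt'
    rw [hgw w (List.mem_of_getElem? hk)]
    refine gword_of_wordsFrom (lv v) iv (lv_iv v) hfrom hbase _ (List.mem_map.2 ⟨w, List.mem_of_getElem? (i := k) ?_, rfl⟩)
    rw [List.getElem?_take, if_pos hlt', hk]
  have hsub : ∀ (k : ℕ) (w : List ℕ), C.words[k]? = some w → gword g w ∈ sub v kSmall := by
    intro k w hk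
    have hw := List.mem_of_getElem? hk
    rw [hgw w hw]
    rcases hwords w hw with (h | h) | h
    · rw [hbase _ h]; exact one_mem _
    · have h' := (gword_inverse (lv v) iv (lv_iv v) _).symm.trans (hbase _ h)
      rw [inv_eq_one.1 h']
      exact one_mem _
    · refine gword_mem _ _ fun x hx => ?_
      obtain ⟨y, hy, rfl⟩ := List.mem_map.1 hx
      exact lv_mem_sub v (h y hy)
  refine ⟨sub_mono v hsmall, ?_⟩
  have hset : Subgroup.closure {a | ∃ x < C.L, g x = a} = sub v kBig := by
    apply le_antisymm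
    · rw [Subgroup.closure_le]
      rintro _ ⟨x, hx, rfl⟩
      rw [hL] at hx
      show letterVal _ _ x ∈ _
      rw [letterVal_lt _ hx, List.getD_eq_getElem _ _ hx]
      exact lv_mem_sub v (hal2 _ (List.getElem_mem hx))
    · refine sub_le fun z hz => ?_
      obtain ⟨i, hi, rfl⟩ := List.getElem_of_mem (hbig z hz)
      refine Subgroup.subset_closure ⟨i, hL ▸ hi, ?_⟩
      show letterVal _ _ i = _
      rw [letterVal_lt _ hi, List.getD_eq_getElem _ _ hi]
  have h := relIndex_le hN hn h0 hrow (sub v kSmall) g hg hrel hsub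
  rwa [hset] at h

theorem sub_nil (v : Th.Gen → X) : sub v [] = ⊥ := by simp [sub]

theorem card_sub_nil (v : Th.Gen → X) :
    Nat.card (sub v []) ≤ 1 ∧ Nat.card (sub v []) ≠ 0 := by simp [sub_nil]

theorem card_I_le {v : Th.Gen → X} (h : Rel1 v) :
    Nat.card (sub v kI) ≤ 96 ∧ Nat.card (sub v kI) ≠ 0 := by
  have hc := relIndex_cert CAcde.facts CAcde.n_pos CAcde.node_zero CAcde.rows rfl
    [0, 1, 4, 5, 6, 7, 8, 9] (Tab.relWords.take 14) kI [] (by decide +kernel) v h
  exact card_step hc.1 (card_sub_nil v) hc.2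

/-- `⟨a, b, c, d, e⟩` has order at most 12096. -/
theorem card_U_le {v : Th.Gen → X} (h : Rel1 v) :
    Nat.card (sub v kU) ≤ 12096 ∧ Nat.card (sub v kU) ≠ 0 := by
  have hc := relIndex_cert CU.facts CU.n_pos CU.node_zero CU.rows rfl
    [0, 1, 2, 3, 4, 5, 6, 7, 8, 9] (Tab.relWords.take 14) kU kI (by decide +kernel) v h
  exact card_step (m := 126) hc.1 (card_I_le h) hc.2

theorem W_mem_U {v : Th.Gen → X} (h : Rel12 v) : gword (lv v) Tab.wordW ∈ sub v kU := by
  have hrel : ∀ (k : ℕ) (w : List ℕ), CW.words[k]? = some w → k < 40 → gword (lv v) w = 1 := by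
    have hw : wordsFrom iv (Tab.relWords.take 20) (CW.words.take 40) = true := by decide +kernel
    exact fun k w hk hlt => gword_of_wordsFrom (lv v) iv (lv_iv v) hw h w
      (List.mem_of_getElem? (i := k) (by rw [List.getElem?_take, if_pos hlt, hk]))
  have hdrop : (CW.words.drop 40).all (fun w => w.all fun x =>
      kU.contains x || kU.contains (iv x)) = true := by decide +kernel
  have hsub : ∀ (k : ℕ) (w : List ℕ), CW.words[k]? = some w → gword (lv v) w ∈ sub v kU := by
    intro k w hk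
    by_cases hlt : k < 40
    · rw [hrel k w hk hlt]; exact one_mem _
    · have hmem : w ∈ CW.words.drop 40 :=
        List.mem_of_getElem? (i := k - 40)
          (by rw [List.getElem?_drop, Nat.add_sub_cancel' (Nat.le_of_not_lt hlt), hk])
      refine gword_mem _ _ fun x hx => lv_mem_sub v ?_
      have := List.all_eq_true.1 (List.all_eq_true.1 hdrop w hmem) x hx
      simpa [List.contains_iff_mem] using this
  have hp := relIndex_orbit_le CW.facts (S := CW.orbitWords) (n := 1) Nat.one_pos CW.node_zero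
    CW.paths (sub v kU) (lv v) (lv_iv v) hrel hsub
  have h1 := le_antisymm hp.1 (Nat.one_le_iff_ne_zero.2 hp.2)
  have hW : Tab.wordW ∈ CW.orbitWords := by decide +kernel
  exact Subgroup.relIndex_eq_one.1 h1 (Subgroup.subset_closure ⟨_, hW, rfl⟩)

/-- pairs of an element and a permutation -/
noncomputable def pairV (v : Th.Gen → X) (x : Th.Gen) : X × Equiv.Perm (Fin Tab.perm.n) :=
  (v x, pv x)

theorem gword_pairV (v : Th.Gen → X) (w : List ℕ) :
    gword (lv (pairV v)) w = (gword (lv v) w, gword (lv pv) w) :=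
  Prod.ext (gword_map_lv (MonoidHom.fst _ _) (pairV v) w)
    (gword_map_lv (MonoidHom.snd _ _) (pairV v) w)

theorem pairV_holds {k : ℕ} (hk : k ≤ 27) {v : Th.Gen → X} (h : Holds k v) :
    Holds k (pairV v) := fun w hw => by
  rw [gword_pairV, h w hw, (pv_holds.mono hk) w hw]
  rfl

/-- The extra relator holds in any group with relations (1) and (2). -/
theorem gword_W {v : Th.Gen → X} (h : Rel12 v) : gword (lv v) Tab.wordW = 1 := by
  have hp := pairV_holds (by decide) h
  have hU := card_U_le (hp.mono (by decide))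
  have hmem := W_mem_U hp
  have hge := card_pU_ge
  set U := sub (pairV v) kU
  let f : U →* Equiv.Perm (Fin Tab.perm.n) := (MonoidHom.snd _ _).comp U.subtype
  have hf : f.range = sub pv kU := by
    rw [MonoidHom.range_comp, Subgroup.range_subtype]
    exact map_sub (MonoidHom.snd _ _) (pairV v) kU
  have : Finite U := Nat.finite_of_card_ne_zero hU.2
  have hinj : Function.Injective f := by
    rw [← MonoidHom.ker_eq_bot_iff]
    apply Subgroup.eq_bot_of_card_eq
    have h1 : Nat.card f.ker * f.ker.index = Nat.card U := f.ker.card_mul_index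
    rw [Subgroup.index_ker, hf] at h1
    have : 0 < Nat.card f.ker := Nat.card_pos
    nlinarith [hU.1, hge]
  have hone : f ⟨_, hmem⟩ = 1 := by
    show (gword (lv (pairV v)) Tab.wordW).2 = 1
    rw [gword_pairV, pv_W]
  have := hinj (hone.trans (map_one f).symm)
  have := congrArg (fun u : U => (u : X × Equiv.Perm (Fin Tab.perm.n)).1) this
  have h' : (gword (lv (pairV v)) Tab.wordW).1 = 1 := this
  rwa [gword_pairV] at h'

theorem hbaseW {v : Th.Gen → X} (h : Rel12 v) :
    ∀ w ∈ Tab.relWords.take 20 ++ [Tab.wordW], gword (lv v) w = 1 := fun w hw => by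
  rcases List.mem_append.1 hw with hw | hw
  · exact h w hw
  · rw [List.mem_singleton.1 hw]; exact gword_W h

theorem card_D_le {v : Th.Gen → X} (h : Rel12 v) :
    Nat.card (sub v kD) ≤ 504 ∧ Nat.card (sub v kD) ≠ 0 := by
  have hc := relIndex_cert CDes.facts CDes.n_pos CDes.node_zero CDes.rows rfl
    [6, 7, 8, 9, 10, 11] (Tab.relWords.take 20) kD [] (by decide +kernel) v h
  exact card_step hc.1 (card_sub_nil v) hc.2

theorem card_P_le {v : Th.Gen → X} (h : Rel12 v) :
    Nat.card (sub v kP) ≤ 258048 ∧ Nat.card (sub v kP) ≠ 0 := by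
  have hc := relIndex_cert CP.facts CP.n_pos CP.node_zero CP.rows rfl
    [0, 1, 4, 5, 6, 7, 8, 9, 10, 11] (Tab.relWords.take 20 ++ [Tab.wordW]) kP kD
    (by decide +kernel) v (hbaseW h)
  exact card_step (m := 512) hc.1 (card_D_le h) hc.2

/-- `⟨a, b, c, d, e, s⟩` has order at most 211341312. -/
theorem card_L_le {v : Th.Gen → X} (h : Rel12 v) :
    Nat.card (sub v kL) ≤ 211341312 ∧ Nat.card (sub v kL) ≠ 0 := by
  have hc := relIndex_cert CL.facts CL.n_pos CL.node_zero CL.rows rfl
    [0, 1, 2, 3, 4, 5, 6, 7, 8, 9, 10, 11] (Tab.relWords.take 20) kL kP (by decide +kernel) v h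
  exact card_step (m := 819) hc.1 (card_P_le h) hc.2

theorem t_conj {v : Th.Gen → X} (h : Rel123 v) :
    v .t ^ 3 = 1 ∧ ∀ x ∈ kL, (v .t)⁻¹ * lv v x * v .t ∈ sub v kL := by
  have hv : ∀ n, (hn : n < Th.extra.length) → n < 27 → FreeGroup.lift v Th.extra[n] = 1 := by
    intro n hn hlt
    rw [lift_eq_gword]
    refine h _ ?_
    rw [← words_eq, ← List.map_take, List.take_take, Nat.min_self]
    exact List.mem_map.2 ⟨_, List.mem_take_iff_getElem.2 ⟨n, by omega, rfl⟩, rfl⟩
  have e20 := hv 20 (by decide +kernel) (by decide)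
  have e21 := hv 21 (by decide +kernel) (by decide)
  have e22 := hv 22 (by decide +kernel) (by decide)
  have e23 := hv 23 (by decide +kernel) (by decide)
  have e24 := hv 24 (by decide +kernel) (by decide)
  have e25 := hv 25 (by decide +kernel) (by decide)
  have e26 := hv 26 (by decide +kernel) (by decide)
  simp only [Th.extra, List.getElem_cons_succ, List.getElem_cons_zero, map_mul, map_inv, map_pow,
    Th.a, Th.b, Th.c, Th.d, Th.e, Th.s, Th.t, FreeGroup.lift_apply_of] at e20 e21 e22 e23 e24 e25 e26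
  refine ⟨e20, fun x hx => ?_⟩
  have hcomm : ∀ y : X, (v .t)⁻¹ * y⁻¹ * v .t * y = 1 → (v .t)⁻¹ * y * v .t = y := fun y hy => by
    have h1 : (v .t)⁻¹ * y⁻¹ * v .t = y⁻¹ := eq_inv_of_mul_eq_one_left hy
    calc (v .t)⁻¹ * y * v .t = ((v .t)⁻¹ * y⁻¹ * v .t)⁻¹ := by group
      _ = y := by rw [h1, inv_inv]
  simp only [List.mem_cons, List.not_mem_nil, or_false] at hx
  rcases hx with rfl | rfl | rfl | rfl | rfl | rfl
  · show (v .t)⁻¹ * v .a * v .t ∈ _
    rw [hcomm _ e21]; exact lv_mem_sub v (x := 0) (by decide)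
  · show (v .t)⁻¹ * v .b * v .t ∈ _
    rw [hcomm _ e22]; exact lv_mem_sub v (x := 2) (by decide)
  · show (v .t)⁻¹ * v .c * v .t ∈ _
    rw [hcomm _ e23]; exact lv_mem_sub v (x := 4) (by decide)
  · show (v .t)⁻¹ * v .d * v .t ∈ _
    rw [hcomm _ e24]; exact lv_mem_sub v (x := 6) (by decide)
  · show (v .t)⁻¹ * v .e * v .t ∈ _
    rw [hcomm _ e25]; exact lv_mem_sub v (x := 8) (by decide)
  · show (v .t)⁻¹ * v .s * v .t ∈ _
    rw [mul_inv_eq_one.1 e26]
    exact pow_mem (lv_mem_sub v (x := 10) (by decide)) 2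

theorem t_mem_normalizer {v : Th.Gen → X} (h : Rel123 v) :
    v .t ∈ Subgroup.normalizer (sub v kL : Set X) := by
  have := Nat.finite_of_card_ne_zero (card_L_le (h.mono (by decide))).2
  have hconj : ∀ l ∈ sub v kL, (v .t)⁻¹ * l * v .t ∈ sub v kL := by
    intro l hl
    have hle : sub v kL ≤ (sub v kL).comap (MulAut.conj (v .t)⁻¹).toMonoidHom :=
      sub_le fun x hx => by simpa using (t_conj h).2 x hx
    simpa using hle hl
  have hmaps : Set.MapsTo (fun l => (v .t)⁻¹ * l * v .t) (sub v kL : Set X) (sub v kL) := hconj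
  have hsurj := ((Set.toFinite (sub v kL : Set X)).injOn_iff_bijOn_of_mapsTo hmaps).1
    (fun a _ b _ hab => by simpa using hab)
  rw [Subgroup.mem_normalizer_iff]
  intro l
  constructor
  · intro hl
    obtain ⟨l', hl', he⟩ := hsurj.surjOn hl
    have : v .t * l * (v .t)⁻¹ = l' := by rw [← he]; group
    rw [this]; exact hl'
  · intro hl
    have := hconj _ hl
    simpa [mul_assoc] using this

/-- `⟨a, b, c, d, e, s, t⟩` is at most three times as large as `⟨a, b, c, d, e, s⟩`. -/
theorem relIndex_L_H {v : Th.Gen → X} (h : Rel123 v) :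
    (sub v kL).relIndex (sub v kH) ≤ 3 ∧ (sub v kL).relIndex (sub v kH) ≠ 0 := by
  have ht := (t_conj h).1
  have hn := t_mem_normalizer h
  have hmem : ∀ z ∈ sub v kH, ∃ l ∈ sub v kL, ∃ k : ℤ, z = v .t ^ k * l := by
    intro z hz
    induction hz using Subgroup.closure_induction with
    | mem z hz =>
      obtain ⟨x, hx, rfl⟩ := hz
      by_cases hxL : x ∈ kL
      · exact ⟨_, lv_mem_sub v (Or.inl hxL), 0, by simp⟩
      · have hx12 : x = 12 := by simp at hx hxL; omega
        subst hx12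
        exact ⟨1, one_mem _, 1, by simp; rfl⟩
    | one => exact ⟨1, one_mem _, 0, by simp⟩
    | mul a b _ _ iha ihb =>
      obtain ⟨l, hl, k, rfl⟩ := iha
      obtain ⟨l', hl', k', rfl⟩ := ihb
      refine ⟨(v .t ^ k')⁻¹ * l * v .t ^ k' * l', mul_mem ?_ hl', k + k', ?_⟩
      · exact ((Subgroup.mem_normalizer_iff''.1 (zpow_mem hn k')) l).1 hl
      · rw [zpow_add]; group
    | inv a _ iha =>
      obtain ⟨l, hl, k, rfl⟩ := iha
      refine ⟨v .t ^ k * l⁻¹ * (v .t ^ k)⁻¹, ?_, -k, ?_⟩
      · exact ((Subgroup.mem_normalizer_iff.1 (zpow_mem hn k)) l⁻¹).1 (inv_mem hl)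
      · rw [zpow_neg]; group
  have htH : v .t ∈ sub v kH := lv_mem_sub v (x := 12) (by decide)
  let f : Fin 3 → sub v kH ⧸ (sub v kL).subgroupOf (sub v kH) := fun k =>
    QuotientGroup.mk ⟨v .t ^ (k : ℕ), pow_mem htH _⟩
  have hf : Function.Surjective f := by
    intro q
    refine QuotientGroup.induction_on q fun ⟨z, hz⟩ => ?_
    obtain ⟨l, hl, k, rfl⟩ := hmem z hz
    refine ⟨⟨(k % 3).toNat, by omega⟩, ?_⟩
    refine QuotientGroup.eq.2 (Subgroup.mem_subgroupOf.2 ?_)
    show (v .t ^ (k % 3).toNat)⁻¹ * (v .t ^ k * l) ∈ _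
    rw [← zpow_natCast, Int.toNat_of_nonneg (by omega)]
    have hk : v .t ^ k = v .t ^ (k % 3) := by
      conv_lhs => rw [← Int.mul_ediv_add_emod k 3, zpow_add, zpow_mul, zpow_ofNat, ht, one_zpow,
        one_mul]
    rw [hk, inv_mul_cancel_left]
    exact hl
  have hfin := Finite.of_surjective f hf
  exact ⟨(Nat.card_le_card_of_surjective f hf).trans (by simp), Nat.card_pos.ne'⟩

/-- `⟨a, b, c, d, e, s, t⟩` has order at most 634023936. -/
theorem card_H_le {v : Th.Gen → X} (h : Rel123 v) :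
    Nat.card (sub v kH) ≤ 634023936 ∧ Nat.card (sub v kH) ≠ 0 :=
  card_step (m := 3) (n := 211341312) (sub_mono v (by decide)) (card_L_le (h.mono (by decide)))
    (relIndex_L_H h)

end CfsgLib.ThH99
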