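import Cfsg.Agent.ThH99.Simple
import Cfsg.Agent.Th34.Basic

/-!
The subgroups `H = ⟨a, b, c, d, e, s, t⟩` and `L = ⟨a, b, c, d, e, s⟩` of the presented Thompson
group: `H` is finite of order at most 634023936, and when `L` is nontrivial it is `³D₄(2)` and `H`
is an extension by 3 whose nontrivial normal subgroups contain `L`.
-/

set_option autoImplicit false

namespace CfsgLib.ThH99

open CfsgLib.CosetEnum Cfsg.Spor

/-- the generators of the presented group -/
noncomputable def gv (x : Th.Gen) : Cfsg.Spor.Th := Th34.g x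

theorem gv_holds {k : ℕ} (hk : k ≤ 27) : Holds k gv := by
  refine holds_of_lift hk fun n hn _ => ?_
  have hpi : FreeGroup.lift gv = Th34.π := FreeGroup.ext_hom _ _ fun x => FreeGroup.lift_apply_of
  rw [hpi]
  exact Th34.rel_getElem n hn

theorem sub_gv_kL : sub gv kL = Th34.L := by
  apply le_antisymm
  · refine sub_le fun x hx => ?_
    simp only [List.mem_cons, List.not_mem_nil, or_false] at hx
    rcases hx with rfl | rfl | rfl | rfl | rfl | rfl <;>
      exact Th34.g_mem_L (by decide) (by decide)
  · rw [Subgroup.map_le_iff_le_comap, Subgroup.closure_le]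
    intro z hz
    simp only [Set.mem_insert_iff, Set.mem_singleton_iff] at hz
    rcases hz with rfl | rfl | rfl | rfl | rfl | rfl
    · exact lv_mem_sub gv (x := 0) (by decide)
    · exact lv_mem_sub gv (x := 2) (by decide)
    · exact lv_mem_sub gv (x := 4) (by decide)
    · exact lv_mem_sub gv (x := 6) (by decide)
    · exact lv_mem_sub gv (x := 8) (by decide)
    · exact lv_mem_sub gv (x := 10) (by decide)

theorem sub_gv_kH : sub gv kH = Th34.H := by
  apply le_antisymm
  · refine sub_le fun x hx => ?_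
    simp only [List.mem_cons, List.not_mem_nil, or_false] at hx
    rcases hx with rfl | rfl | rfl | rfl | rfl | rfl | rfl <;>
      exact Th34.g_mem_H (by decide)
  · rw [Subgroup.map_le_iff_le_comap, Subgroup.closure_le]
    intro z hz
    simp only [Set.mem_insert_iff, Set.mem_singleton_iff] at hz
    rcases hz with rfl | rfl | rfl | rfl | rfl | rfl | rfl
    · exact lv_mem_sub gv (x := 0) (by decide)
    · exact lv_mem_sub gv (x := 2) (by decide)
    · exact lv_mem_sub gv (x := 4) (by decide)
    · exact lv_mem_sub gv (x := 6) (by decide)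
    · exact lv_mem_sub gv (x := 8) (by decide)
    · exact lv_mem_sub gv (x := 10) (by decide)
    · exact lv_mem_sub gv (x := 12) (by decide)

/-- `H` has order at most 634023936. -/
theorem card_Th_H_le : Nat.card Th34.H ≤ 634023936 ∧ Nat.card Th34.H ≠ 0 :=
  sub_gv_kH ▸ card_H_le (gv_holds le_rfl)

/-- `L` has order at most 211341312. -/
theorem card_Th_L_le : Nat.card Th34.L ≤ 211341312 ∧ Nat.card Th34.L ≠ 0 :=
  sub_gv_kL ▸ card_L_le (gv_holds (by decide))

theorem finite_H : Finite Th34.H := Nat.finite_of_card_ne_zero card_Th_H_le.2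

theorem finite_L : Finite Th34.L := Nat.finite_of_card_ne_zero card_Th_L_le.2

/-- A nontrivial `L` is the permutation group on 819 points. -/
theorem exists_equiv_L (hL : Th34.L ≠ ⊥) : Nonempty (pL ≃* Th34.L) :=
  sub_gv_kL ▸ equiv_L (gv_holds (by decide)) (sub_gv_kL.symm ▸ hL)

theorem card_L (hL : Th34.L ≠ ⊥) : Nat.card Th34.L = 211341312 := by
  obtain ⟨e⟩ := exists_equiv_L hL
  rw [← Nat.card_congr e.toEquiv, card_pL]

theorem simple_L (hL : Th34.L ≠ ⊥) : IsSimpleGroup Th34.L := by
  obtain ⟨e⟩ := exists_equiv_L hL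
  have := simple_pL
  have : Nontrivial Th34.L := e.symm.toEquiv.nontrivial
  exact IsSimpleGroup.isSimpleGroup_of_surjective e.toMonoidHom e.surjective

/-- `L` is `³D₄(2)`. -/
theorem is3D4_L (hL : Th34.L ≠ ⊥) : Cfsg.Is3D4 Th34.L :=
  ⟨simple_L hL, 2, (Nat.prime_two).isPrimePow, by rw [card_L hL]; norm_num⟩

/-- `H` is the permutation group on 819 points, with `L` as the part without `t`. -/
theorem exists_equiv_H (hL : Th34.L ≠ ⊥) :
    ∃ e : pH ≃* Th34.H, (pL.subgroupOf pH).map e.toMonoidHom = Th34.L.subgroupOf Th34.H := by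
  have h := equiv_H (gv_holds le_rfl) (sub_gv_kL.symm ▸ hL)
  rwa [sub_gv_kH, sub_gv_kL] at h

theorem card_H (hL : Th34.L ≠ ⊥) : Nat.card Th34.H = 634023936 := by
  obtain ⟨e, -⟩ := exists_equiv_H hL
  rw [← Nat.card_congr e.toEquiv, card_pH]

/-- A normal subgroup of `H` is trivial or contains `L`. -/
theorem normal_H (hL : Th34.L ≠ ⊥) (N : Subgroup Th34.H) (hN : N.Normal) :
    N = ⊥ ∨ Th34.L.subgroupOf Th34.H ≤ N := by
  obtain ⟨e, he⟩ := exists_equiv_H hL
  by_cases hne : N = ⊥
  · exact Or.inl hne
  refine Or.inr ?_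
  rw [← he, Subgroup.map_le_iff_le_comap]
  intro a ha
  have hle := pL_le_of_normalized (N := (N.comap e.toMonoidHom).map pH.subtype)
    (Subgroup.map_subtype_le _) (by
      rintro b hb _ ⟨k, hk, rfl⟩
      exact ⟨⟨b, hb⟩ * k * ⟨b, hb⟩⁻¹,
        (hN.comap e.toMonoidHom).conj_mem k hk ⟨b, hb⟩, rfl⟩)
    (by
      rw [Ne, Subgroup.map_eq_bot_iff_of_injective _ (Subgroup.subtype_injective _)]
      intro h
      refine hne (eq_bot_iff.2 fun z hz => Subgroup.mem_bot.2 ?_)
      have : e.symm z ∈ N.comap e.toMonoidHom := by simpa using hz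
      rw [h, Subgroup.mem_bot] at this
      simpa using congrArg e this)
  obtain ⟨b, hb, hbe⟩ := hle ha
  rwa [← Subgroup.subtype_injective _ hbe]

/-- A nontrivial `L` is perfect. -/
theorem commutator_L (hL : Th34.L ≠ ⊥) : ⁅Th34.L, Th34.L⁆ = Th34.L := by
  obtain ⟨e⟩ := exists_equiv_L hL
  have h := congrArg (fun K => K.map (Th34.L.subtype.comp e.toMonoidHom))
    (show (commutator pL) = ⊤ by
      apply Subgroup.map_injective pL.subtype_injective
      rw [commutator_def, Subgroup.map_commutator, ← MonoidHom.range_eq_map,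
        Subgroup.range_subtype, commutator_pL])
  simp only [commutator_def, Subgroup.map_commutator, ← MonoidHom.range_eq_map,
    MonoidHom.range_comp, MonoidHom.range_eq_top.2 (show Function.Surjective e.toMonoidHom from
      e.surjective), Subgroup.range_subtype] at h
  exact h

theorem L_le_commutator (hL : Th34.L ≠ ⊥) : Th34.L ≤ commutator Cfsg.Spor.Th :=
  (commutator_L hL).ge.trans (commutator_def Cfsg.Spor.Th ▸ Subgroup.commutator_mono le_top le_top)

end CfsgLib.ThH99
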