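import Cfsg.Agent.ThH99.Table

/-! Generated: checks of the table and of the orbit labels. -/

set_option autoImplicit false
set_option maxRecDepth 100000

namespace CfsgLib.ThH99.Tab

open CfsgLib.CosetEnum

theorem checkA0 : allFrom (checkOrbit TF 14 wordsA labA rankA oparA ogenA rootA 819) 0 273 = true := by
  decide +kernel

theorem checkA273 : allFrom (checkOrbit TF 14 wordsA labA rankA oparA ogenA rootA 819) 273 273 = true := by
  decide +kernel

theorem checkA546 : allFrom (checkOrbit TF 14 wordsA labA rankA oparA ogenA rootA 819) 546 273 = true := by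
  decide +kernel

theorem checkA : ∀ i < 819, (checkOrbit TF 14 wordsA labA rankA oparA ogenA rootA 819) i = true :=
  RangeChecked.all (RangeChecked.app 273 819 (RangeChecked.app 273 546 (RangeChecked.app 273 273 RangeChecked.zero checkA0 rfl) checkA273 rfl) checkA546 rfl)

theorem checkP0 : allFrom (checkOrbit TF 14 wordsP labP rankP oparP ogenP rootP 819) 0 273 = true := by
  decide +kernel

theorem checkP273 : allFrom (checkOrbit TF 14 wordsP labP rankP oparP ogenP rootP 819) 273 273 = true := by
  decide +kernel

theorem checkP546 : allFrom (checkOrbit TF 14 wordsP labP rankP oparP ogenP rootP 819) 546 273 = true := by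
  decide +kernel

theorem checkP : ∀ i < 819, (checkOrbit TF 14 wordsP labP rankP oparP ogenP rootP 819) i = true :=
  RangeChecked.all (RangeChecked.app 273 819 (RangeChecked.app 273 546 (RangeChecked.app 273 273 RangeChecked.zero checkP0 rfl) checkP273 rfl) checkP546 rfl)

theorem checkD0 : allFrom (checkOrbit TF 14 wordsD labD rankD oparD ogenD rootD 819) 0 273 = true := by
  decide +kernel

theorem checkD273 : allFrom (checkOrbit TF 14 wordsD labD rankD oparD ogenD rootD 819) 273 273 = true := by
  decide +kernel

theorem checkD546 : allFrom (checkOrbit TF 14 wordsD labD rankD oparD ogenD rootD 819) 546 273 = true := by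
  decide +kernel

theorem checkD : ∀ i < 819, (checkOrbit TF 14 wordsD labD rankD oparD ogenD rootD 819) i = true :=
  RangeChecked.all (RangeChecked.app 273 819 (RangeChecked.app 273 546 (RangeChecked.app 273 273 RangeChecked.zero checkD0 rfl) checkD273 rfl) checkD546 rfl)

theorem checkE0 : allFrom (checkOrbit TF 14 wordsE labE rankE oparE ogenE rootE 819) 0 273 = true := by
  decide +kernel

theorem checkE273 : allFrom (checkOrbit TF 14 wordsE labE rankE oparE ogenE rootE 819) 273 273 = true := by
  decide +kernel

theorem checkE546 : allFrom (checkOrbit TF 14 wordsE labE rankE oparE ogenE rootE 819) 546 273 = true := by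
  decide +kernel

theorem checkE : ∀ i < 819, (checkOrbit TF 14 wordsE labE rankE oparE ogenE rootE 819) i = true :=
  RangeChecked.all (RangeChecked.app 273 819 (RangeChecked.app 273 546 (RangeChecked.app 273 273 RangeChecked.zero checkE0 rfl) checkE273 rfl) checkE546 rfl)

theorem checkF0 : allFrom (checkOrbit TF 14 wordsF labF rankF oparF ogenF rootF 819) 0 273 = true := by
  decide +kernel

theorem checkF273 : allFrom (checkOrbit TF 14 wordsF labF rankF oparF ogenF rootF 819) 273 273 = true := by
  decide +kernel

theorem checkF546 : allFrom (checkOrbit TF 14 wordsF labF rankF oparF ogenF rootF 819) 546 273 = true := by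
  decide +kernel

theorem checkF : ∀ i < 819, (checkOrbit TF 14 wordsF labF rankF oparF ogenF rootF 819) i = true :=
  RangeChecked.all (RangeChecked.app 273 819 (RangeChecked.app 273 546 (RangeChecked.app 273 273 RangeChecked.zero checkF0 rfl) checkF273 rfl) checkF546 rfl)

theorem checkG0 : allFrom (checkOrbit TF 14 wordsG labG rankG oparG ogenG rootG 819) 0 273 = true := by
  decide +kernel

theorem checkG273 : allFrom (checkOrbit TF 14 wordsG labG rankG oparG ogenG rootG 819) 273 273 = true := by
  decide +kernel

theorem checkG546 : allFrom (checkOrbit TF 14 wordsG labG rankG oparG ogenG rootG 819) 546 273 = true := by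
  decide +kernel

theorem checkG : ∀ i < 819, (checkOrbit TF 14 wordsG labG rankG oparG ogenG rootG 819) i = true :=
  RangeChecked.all (RangeChecked.app 273 819 (RangeChecked.app 273 546 (RangeChecked.app 273 273 RangeChecked.zero checkG0 rfl) checkG273 rfl) checkG546 rfl)

theorem checkU0 : allFrom (checkOrbit TF 14 wordsU labU rankU oparU ogenU rootU 819) 0 273 = true := by
  decide +kernel

theorem checkU273 : allFrom (checkOrbit TF 14 wordsU labU rankU oparU ogenU rootU 819) 273 273 = true := by
  decide +kernel

theorem checkU546 : allFrom (checkOrbit TF 14 wordsU labU rankU oparU ogenU rootU 819) 546 273 = true := by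
  decide +kernel

theorem checkU : ∀ i < 819, (checkOrbit TF 14 wordsU labU rankU oparU ogenU rootU 819) i = true :=
  RangeChecked.all (RangeChecked.app 273 819 (RangeChecked.app 273 546 (RangeChecked.app 273 273 RangeChecked.zero checkU0 rfl) checkU273 rfl) checkU546 rfl)

theorem checkV0 : allFrom (checkOrbit TF 14 wordsV labV rankV oparV ogenV rootV 819) 0 273 = true := by
  decide +kernel

theorem checkV273 : allFrom (checkOrbit TF 14 wordsV labV rankV oparV ogenV rootV 819) 273 273 = true := by
  decide +kernel

theorem checkV546 : allFrom (checkOrbit TF 14 wordsV labV rankV oparV ogenV rootV 819) 546 273 = true := by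
  decide +kernel

theorem checkV : ∀ i < 819, (checkOrbit TF 14 wordsV labV rankV oparV ogenV rootV 819) i = true :=
  RangeChecked.all (RangeChecked.app 273 819 (RangeChecked.app 273 546 (RangeChecked.app 273 273 RangeChecked.zero checkV0 rfl) checkV273 rfl) checkV546 rfl)

theorem checkPoint0 : allFrom (checkPoint (fun x => x ^^^ 1) 14 relWords TF parF 819) 0 41 = true := by
  decide +kernel

theorem checkPoint41 : allFrom (checkPoint (fun x => x ^^^ 1) 14 relWords TF parF 819) 41 41 = true := by
  decide +kernel

theorem checkPoint82 : allFrom (checkPoint (fun x => x ^^^ 1) 14 relWords TF parF 819) 82 41 = true := by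
  decide +kernel

theorem checkPoint123 : allFrom (checkPoint (fun x => x ^^^ 1) 14 relWords TF parF 819) 123 41 = true := by
  decide +kernel

theorem checkPoint164 : allFrom (checkPoint (fun x => x ^^^ 1) 14 relWords TF parF 819) 164 41 = true := by
  decide +kernel

theorem checkPoint205 : allFrom (checkPoint (fun x => x ^^^ 1) 14 relWords TF parF 819) 205 41 = true := by
  decide +kernel

theorem checkPoint246 : allFrom (checkPoint (fun x => x ^^^ 1) 14 relWords TF parF 819) 246 41 = true := by
  decide +kernel

theorem checkPoint287 : allFrom (checkPoint (fun x => x ^^^ 1) 14 relWords TF parF 819) 287 41 = true := by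
  decide +kernel

theorem checkPoint328 : allFrom (checkPoint (fun x => x ^^^ 1) 14 relWords TF parF 819) 328 41 = true := by
  decide +kernel

theorem checkPoint369 : allFrom (checkPoint (fun x => x ^^^ 1) 14 relWords TF parF 819) 369 41 = true := by
  decide +kernel

theorem checkPoint410 : allFrom (checkPoint (fun x => x ^^^ 1) 14 relWords TF parF 819) 410 41 = true := by
  decide +kernel

theorem checkPoint451 : allFrom (checkPoint (fun x => x ^^^ 1) 14 relWords TF parF 819) 451 41 = true := by
  decide +kernel

theorem checkPoint492 : allFrom (checkPoint (fun x => x ^^^ 1) 14 relWords TF parF 819) 492 41 = true := by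
  decide +kernel

theorem checkPoint533 : allFrom (checkPoint (fun x => x ^^^ 1) 14 relWords TF parF 819) 533 41 = true := by
  decide +kernel

theorem checkPoint574 : allFrom (checkPoint (fun x => x ^^^ 1) 14 relWords TF parF 819) 574 41 = true := by
  decide +kernel

theorem checkPoint615 : allFrom (checkPoint (fun x => x ^^^ 1) 14 relWords TF parF 819) 615 41 = true := by
  decide +kernel

theorem checkPoint656 : allFrom (checkPoint (fun x => x ^^^ 1) 14 relWords TF parF 819) 656 41 = true := by
  decide +kernel

theorem checkPoint697 : allFrom (checkPoint (fun x => x ^^^ 1) 14 relWords TF parF 819) 697 41 = true := by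
  decide +kernel

theorem checkPoint738 : allFrom (checkPoint (fun x => x ^^^ 1) 14 relWords TF parF 819) 738 41 = true := by
  decide +kernel

theorem checkPoint779 : allFrom (checkPoint (fun x => x ^^^ 1) 14 relWords TF parF 819) 779 40 = true := by
  decide +kernel

theorem checkPointAll : ∀ i < 819, (checkPoint (fun x => x ^^^ 1) 14 relWords TF parF 819) i = true :=
  RangeChecked.all (RangeChecked.app 40 819 (RangeChecked.app 41 779 (RangeChecked.app 41 738 (RangeChecked.app 41 697 (RangeChecked.app 41 656 (RangeChecked.app 41 615 (RangeChecked.app 41 574 (RangeChecked.app 41 533 (RangeChecked.app 41 492 (RangeChecked.app 41 451 (RangeChecked.app 41 410 (RangeChecked.app 41 369 (RangeChecked.app 41 328 (RangeChecked.app 41 287 (RangeChecked.app 41 246 (RangeChecked.app 41 205 (RangeChecked.app 41 164 (RangeChecked.app 41 123 (RangeChecked.app 41 82 (RangeChecked.app 41 41 RangeChecked.zero checkPoint0 rfl) checkPoint41 rfl) checkPoint82 rfl) checkPoint123 rfl) checkPoint164 rfl) checkPoint205 rfl) checkPoint246 rfl) checkPoint287 rfl) checkPoint328 rfl) checkPoint369 rfl) checkPoint410 rfl) checkPoint451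 rfl) checkPoint492 rfl) checkPoint533 rfl) checkPoint574 rfl) checkPoint615 rfl) checkPoint656 rfl) checkPoint697 rfl) checkPoint738 rfl) checkPoint779 rfl)

theorem perm_ok : perm.OK :=
  ⟨by decide +kernel, by decide +kernel, checkPointAll⟩

end CfsgLib.ThH99.Tab
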