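import Cfsg.Agent.ThH99.Words
import Cfsg.Agent.ThH99.TableChecks
import Cfsg.Agent.CosetEnum.Chain

/-!
The action on 819 points: the relators hold, and the orders of the permutation groups are at
least 12096, 211341312 and 634023936.
-/

set_option autoImplicit false

namespace CfsgLib.ThH99

open CfsgLib.CosetEnum Cfsg.Spor

/-- the permutation of a generator -/
noncomputable def pv (x : Th.Gen) : Equiv.Perm (Fin Tab.perm.n) := Tab.perm_ok.sigma (enc x)

theorem lv_pv {x : ℕ} (hx : x < 14) : lv pv x = Tab.perm_ok.sigma x := by
  have h : ∀ y < 14, lv pv y = if y % 2 = 0 then pv (dec y) else (pv (dec y))⁻¹ := fun y hy => by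
    rw [lv, letterVal_lt _ (by omega)]
  rw [h x hx]
  have hiv : ∀ y < 14, Tab.perm_ok.sigma (y ^^^ 1) = (Tab.perm_ok.sigma y)⁻¹ := fun y hy =>
    Tab.perm_ok.sigma_iv hy
  interval_cases x <;> first
    | rfl
    | exact (hiv 0 (by decide)).symm
    | exact (hiv 2 (by decide)).symm
    | exact (hiv 4 (by decide)).symm
    | exact (hiv 6 (by decide)).symm
    | exact (hiv 8 (by decide)).symm
    | exact (hiv 10 (by decide)).symm
    | exact (hiv 12 (by decide)).symm

/-- all letters are below 14 -/
def smallWords (S : List (List ℕ)) : Bool := S.all fun w => w.all fun x => x.blt 14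

theorem small {S : List (List ℕ)} (h : smallWords S = true) :
    ∀ w ∈ S, ∀ x ∈ w, x < Tab.perm.L := by
  intro w hw x hx
  have := List.all_eq_true.1 (List.all_eq_true.1 h w hw) x hx
  simpa [Nat.blt, Nat.ble_eq] using this

theorem gword_pv {w : List ℕ} (hw : ∀ x ∈ w, x < 14) :
    gword (lv pv) w = gword Tab.perm_ok.sigma w :=
  gword_congr _ _ fun x hx => lv_pv (hw x hx)

theorem small_rel : smallWords Tab.relWords = true := by decide +kernel

theorem pv_holds : Holds 27 pv := fun w hw => by
  have hw' : w ∈ Tab.relWords := List.mem_of_mem_take hw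
  rw [gword_pv fun x hx => small small_rel w hw' x hx]
  exact Tab.perm_ok.gword_rel hw'

theorem small_W : smallWords [Tab.wordW] = true := by decide +kernel

theorem fix_W : allBelow (fun i => runT Tab.perm.T Tab.perm.L Tab.wordW i == i) 819 = true := by
  decide +kernel

theorem pv_W : gword (lv pv) Tab.wordW = 1 := by
  rw [gword_pv fun x hx => small small_W _ List.mem_cons_self x hx]
  refine inv_eq_one.1 (Equiv.ext fun i => Fin.ext ?_)
  rw [Tab.perm_ok.gword_inv_apply _ (small small_W _ List.mem_cons_self)]
  exact beq_iff_eq.1 ((Model.allBelow_iff _ _).1 fix_W i i.2)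

/-- the group generated by some words -/
noncomputable def cl (S : List (List ℕ)) : Subgroup (Equiv.Perm (Fin Tab.perm.n)) :=
  Subgroup.closure {a | ∃ w ∈ S, gword Tab.perm_ok.sigma w = a}

theorem gword_mem_sub {keep : List ℕ} {S : List (List ℕ)} (hs : smallWords S = true)
    (h : S.all (fun w => w.all fun x => keep.contains x || keep.contains (x ^^^ 1)) = true) :
    ∀ w ∈ S, gword Tab.perm_ok.sigma w ∈ sub pv keep := by
  intro w hw
  rw [← gword_pv fun x hx => small hs w hw x hx]
  refine gword_mem _ _ fun x hx => lv_mem_sub pv ?_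
  have := List.all_eq_true.1 (List.all_eq_true.1 h w hw) x hx
  simpa [List.contains_iff_mem] using this

theorem le_stab {keep : List ℕ} {S : List (List ℕ)} (hs : smallWords S = true)
    (h : S.all (fun w => w.all fun x => keep.contains x || keep.contains (x ^^^ 1)) = true)
    (pts : List (Fin Tab.perm.n))
    (hfix : S.all (fun w => pts.all fun p => runT Tab.perm.T Tab.perm.L w p == (p : ℕ)) = true) :
    cl S ≤ pointStab (sub pv keep) pts :=
  closure_words_le_pointStab Tab.perm_ok S (small hs) _ (gword_mem_sub hs h) pts hfix

/-- a point of the table -/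
def pt (i : ℕ) (hi : i < 819) : Fin Tab.perm.n := ⟨i, hi⟩

abbrev P0 : Fin Tab.perm.n := pt 0 (by omega)
abbrev P1 : Fin Tab.perm.n := pt 1 (by omega)
abbrev P50 : Fin Tab.perm.n := pt 50 (by omega)
abbrev P3 : Fin Tab.perm.n := pt 3 (by omega)
abbrev P26 : Fin Tab.perm.n := pt 26 (by omega)
abbrev P15 : Fin Tab.perm.n := pt 15 (by omega)

theorem smallA : smallWords Tab.wordsA = true := by decide +kernel
theorem smallP : smallWords Tab.wordsP = true := by decide +kernel
theorem smallD : smallWords Tab.wordsD = true := by decide +kernel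
theorem smallE : smallWords Tab.wordsE = true := by decide +kernel
theorem smallF : smallWords Tab.wordsF = true := by decide +kernel
theorem smallG : smallWords Tab.wordsG = true := by decide +kernel
theorem smallU : smallWords Tab.wordsU = true := by decide +kernel
theorem smallV : smallWords Tab.wordsV = true := by decide +kernel

theorem ncard_orbit_words {S : List (List ℕ)} (hs : smallWords S = true)
    {lab rank opar ogen root : ℕ → ℕ}
    (hc : ∀ i < 819, checkOrbit Tab.perm.T 14 S lab rank opar ogen root 819 i = true)
    (j : Fin Tab.perm.n) (k : ℕ) (hk : countLabel lab (lab j) 819 = k) :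
    (MulAction.orbit (cl S) j).ncard = k := by
  rw [orbit_eq_label Tab.perm_ok S (small hs) lab rank opar ogen root hc (cl S) rfl j, ncard_label]
  exact hk

theorem orbitA : (MulAction.orbit (cl Tab.wordsA) P0).ncard = 819 :=
  ncard_orbit_words smallA Tab.checkA _ _ (by decide +kernel)
theorem orbitP : (MulAction.orbit (cl Tab.wordsP) P1).ncard = 512 :=
  ncard_orbit_words smallP Tab.checkP _ _ (by decide +kernel)
theorem orbitD : (MulAction.orbit (cl Tab.wordsD) P50).ncard = 168 :=
  ncard_orbit_words smallD Tab.checkD _ _ (by decide +kernel)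
theorem orbitE : (MulAction.orbit (cl Tab.wordsE) P3).ncard = 3 :=
  ncard_orbit_words smallE Tab.checkE _ _ (by decide +kernel)
theorem orbitF : (MulAction.orbit (cl Tab.wordsF) P50).ncard = 168 :=
  ncard_orbit_words smallF Tab.checkF _ _ (by decide +kernel)
theorem orbitG : (MulAction.orbit (cl Tab.wordsG) P26).ncard = 9 :=
  ncard_orbit_words smallG Tab.checkG _ _ (by decide +kernel)
theorem orbitU : (MulAction.orbit (cl Tab.wordsU) P15).ncard = 756 :=
  ncard_orbit_words smallU Tab.checkU _ _ (by decide +kernel)
theorem orbitV : (MulAction.orbit (cl Tab.wordsV) P0).ncard = 16 :=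
  ncard_orbit_words smallV Tab.checkV _ _ (by decide +kernel)

theorem one_le_pointStab (R : Subgroup (Equiv.Perm (Fin Tab.perm.n))) (pts : List (Fin Tab.perm.n)) :
    1 ≤ Nat.card (pointStab R pts) := Nat.card_pos

theorem card_pU_ge : 12096 ≤ Nat.card (sub pv kU) := by
  have h1 : 16 * 1 ≤ Nat.card (pointStab (sub pv kU) [P15]) := by
    have := card_pointStab_ge (p := P0)
      (le_stab (keep := kU) smallV (by decide +kernel) [P15] (by decide +kernel))
      (one_le_pointStab _ _)
    rwa [orbitV] at this
  have h0 := card_pointStab_ge (p := P15)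
    (le_stab (keep := kU) smallU (by decide +kernel) [] (by decide +kernel)) h1
  rw [orbitU] at h0
  simpa [pointStab] using h0

theorem card_pL_ge : 211341312 ≤ Nat.card (sub pv kL) := by
  have h3 : 3 * 1 ≤ Nat.card (pointStab (sub pv kL) [P50, P1, P0]) := by
    have := card_pointStab_ge (p := P3)
      (le_stab (keep := kL) smallE (by decide +kernel) [P50, P1, P0] (by decide +kernel))
      (one_le_pointStab _ _)
    rwa [orbitE] at this
  have h2 : 168 * (3 * 1) ≤ Nat.card (pointStab (sub pv kL) [P1, P0]) := by
    have := card_pointStab_ge (p := P50)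
      (le_stab (keep := kL) smallD (by decide +kernel) [P1, P0] (by decide +kernel)) h3
    rwa [orbitD] at this
  have h1 : 512 * (168 * (3 * 1)) ≤ Nat.card (pointStab (sub pv kL) [P0]) := by
    have := card_pointStab_ge (p := P1)
      (le_stab (keep := kL) smallP (by decide +kernel) [P0] (by decide +kernel)) h2
    rwa [orbitP] at this
  have h0 := card_pointStab_ge (p := P0)
    (le_stab (keep := kL) smallA (by decide +kernel) [] (by decide +kernel)) h1
  rw [orbitA] at h0
  simpa [pointStab] using h0

theorem card_pH_ge : 634023936 ≤ Nat.card (sub pv kH) := by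
  have h3 : 9 * 1 ≤ Nat.card (pointStab (sub pv kH) [P50, P1, P0]) := by
    have := card_pointStab_ge (p := P26)
      (le_stab (keep := kH) smallG (by decide +kernel) [P50, P1, P0] (by decide +kernel))
      (one_le_pointStab _ _)
    rwa [orbitG] at this
  have h2 : 168 * (9 * 1) ≤ Nat.card (pointStab (sub pv kH) [P1, P0]) := by
    have := card_pointStab_ge (p := P50)
      (le_stab (keep := kH) smallF (by decide +kernel) [P1, P0] (by decide +kernel)) h3
    rwa [orbitF] at this
  have h1 : 512 * (168 * (9 * 1)) ≤ Nat.card (pointStab (sub pv kH) [P0]) := by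
    have := card_pointStab_ge (p := P1)
      (le_stab (keep := kH) smallP (by decide +kernel) [P0] (by decide +kernel)) h2
    rwa [orbitP] at this
  have h0 := card_pointStab_ge (p := P0)
    (le_stab (keep := kH) smallA (by decide +kernel) [] (by decide +kernel)) h1
  rw [orbitA] at h0
  simpa [pointStab] using h0

end CfsgLib.ThH99
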