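import Cfsg.Agent.ThH99.Bound
import Cfsg.Agent.ThH99.CKill.Upper
import Cfsg.Agent.CosetEnum.Primitive
import Cfsg.Prelude.Def_Exceptional

/-!
The group `⟨a, b, c, d, e, s⟩` on the 819 points is simple of order 211341312, and has trivial
centraliser in the symmetric group. Transfer to any group with the relations.
-/

set_option autoImplicit false

namespace CfsgLib.ThH99

open CfsgLib.CosetEnum Cfsg.Spor

/-- the permutation group `⟨a, b, c, d, e, s⟩` -/
noncomputable abbrev pL : Subgroup (Equiv.Perm (Fin Tab.perm.n)) := sub pv kL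

/-- the permutation group `⟨a, b, c, d, e, s, t⟩` -/
noncomputable abbrev pH : Subgroup (Equiv.Perm (Fin Tab.perm.n)) := sub pv kH

theorem pL_le_pH : pL ≤ pH := sub_mono pv (by decide)

theorem card_pL : Nat.card pL = 211341312 :=
  le_antisymm (card_L_le (pv_holds.mono (by decide))).1 card_pL_ge

theorem card_pH : Nat.card pH = 634023936 :=
  le_antisymm (card_H_le pv_holds).1 card_pH_ge

theorem clA_le : cl Tab.wordsA ≤ pL :=
  fun _ h => (mem_pointStab.1 ((le_stab (keep := kL) smallA (by decide +kernel) []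
    (by decide +kernel)) h)).1

theorem clP_le : cl Tab.wordsP ≤ pointStab pL [P0] :=
  le_stab (keep := kL) smallP (by decide +kernel) [P0] (by decide +kernel)

theorem orbit_pL : MulAction.orbit pL P0 = Set.univ := by
  refine Set.eq_of_subset_of_ncard_le (Set.subset_univ _) ?_ (Set.toFinite _)
  have hsub : MulAction.orbit (cl Tab.wordsA) P0 ⊆ MulAction.orbit pL P0 := by
    rintro _ ⟨⟨a, ha⟩, rfl⟩
    exact ⟨⟨a, clA_le ha⟩, rfl⟩
  have h := Set.ncard_le_ncard hsub (Set.toFinite _)
  rw [orbitA] at h
  rw [Set.ncard_univ, Nat.card_fin]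
  exact h

theorem labP_lt : allBelow (fun i => (Tab.labP i).blt 4) 819 = true := by decide +kernel

theorem no_block : allBelow (fun m => !(m.testBit (Tab.labP 0)) ||
    !(819 % countLabel (maskLabel Tab.labP m) 1 819 == 0) ||
    countLabel (maskLabel Tab.labP m) 1 819 == 1 ||
    countLabel (maskLabel Tab.labP m) 1 819 == 819) 16 = true := by decide +kernel

theorem orbit_labP (j : Fin Tab.perm.n) :
    MulAction.orbit (cl Tab.wordsP) j = {i : Fin Tab.perm.n | Tab.labP i = Tab.labP j} :=
  orbit_eq_label Tab.perm_ok _ (small smallP) Tab.labP Tab.rankP Tab.oparP Tab.ogenP Tab.rootP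
    Tab.checkP _ rfl j

theorem transitive_of_normalized {M : Subgroup (Equiv.Perm (Fin Tab.perm.n))} (hM : M ≤ pL)
    (hn : Normalizes pL M) (hne : M ≠ ⊥) : MulAction.orbit M P0 = Set.univ := by
  refine (fixes_or_transitive_labels (K := cl Tab.wordsP) hn hM orbit_pL
    (fun a ha => (mem_pointStab.1 (clP_le ha)).1)
    (fun a ha => (mem_pointStab.1 (clP_le ha)).2 P0 List.mem_cons_self)
    Tab.labP 4 orbit_labP ?_ ?_).resolve_left fun h => hne (eq_bot_iff.2 fun m hm =>
      Subgroup.mem_bot.2 (Equiv.ext fun x => h m hm x))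
  · intro i
    have := (Model.allBelow_iff _ _).1 labP_lt i i.2
    simpa [Nat.blt, Nat.ble_eq] using this
  · intro m hm hbit hdvd
    have := (Model.allBelow_iff _ _).1 no_block m hm
    simp only [Bool.or_eq_true, Bool.not_eq_true', beq_iff_eq, beq_eq_false_iff_ne] at this
    have hd : countLabel (maskLabel Tab.labP m) 1 819 ∣ 819 := hdvd
    have hbit' : m.testBit (Tab.labP 0) = true := hbit
    rcases this with ((h | h) | h) | h
    · rw [hbit'] at h; exact Bool.noConfusion h
    · exact absurd (Nat.mod_eq_zero_of_dvd hd) h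
    · exact Or.inl h
    · exact Or.inr h

theorem count_classes : allBelow (fun c => Nat.beq c 0 || !(countLabel Tab.labP c 819 == 1)) 4
    = true := by decide +kernel

theorem class_zero : allBelow (fun i => !(Tab.labP i == 0) || Nat.beq i 0) 819 = true := by
  decide +kernel

theorem only_zero (i : ℕ) (hi : i < 819) (h : countLabel Tab.labP (Tab.labP i) 819 = 1) :
    i = 0 := by
  have hlt : Tab.labP i < 4 := by
    have := (Model.allBelow_iff _ _).1 labP_lt i hi
    simpa [Nat.blt, Nat.ble_eq] using this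
  have h1 := (Model.allBelow_iff _ _).1 count_classes _ hlt
  rw [h, Bool.or_eq_true] at h1
  rcases h1 with h1 | h1
  · have h2 := (Model.allBelow_iff _ _).1 class_zero i hi
    rw [Nat.eq_of_beq_eq_true h1, Bool.or_eq_true] at h2
    rcases h2 with h2 | h2
    · exact absurd h2 (by decide)
    · exact Nat.eq_of_beq_eq_true h2
  · exact absurd h1 (by decide)

/-- Only the identity commutes with all of `pL`. -/
theorem centralizer_pL {z : Equiv.Perm (Fin Tab.perm.n)} (hz : ∀ a ∈ pL, z * a = a * z) : z = 1 := by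
  have hfix : ∀ a ∈ cl Tab.wordsP, a (z P0) = z P0 := fun a ha => by
    have h := mem_pointStab.1 (clP_le ha)
    have := Equiv.congr_fun (hz a h.1) P0
    rw [Equiv.Perm.mul_apply, Equiv.Perm.mul_apply, h.2 P0 List.mem_cons_self] at this
    exact this.symm
  have horb : MulAction.orbit (cl Tab.wordsP) (z P0) = {z P0} := by
    refine Set.eq_singleton_iff_unique_mem.2 ⟨MulAction.mem_orbit_self _, ?_⟩
    rintro _ ⟨⟨a, ha⟩, rfl⟩
    exact hfix a ha
  have hlab : countLabel Tab.labP (Tab.labP (z P0 : Fin Tab.perm.n)) 819 = 1 := by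
    have h := congrArg Set.ncard horb
    rw [orbit_labP, ncard_label, Set.ncard_singleton] at h
    exact h
  have h0 : z P0 = P0 := Fin.ext (only_zero _ (z P0).2 hlab)
  refine Equiv.ext fun i => ?_
  obtain ⟨⟨a, ha⟩, rfl⟩ := (orbit_pL ▸ Set.mem_univ i : i ∈ MulAction.orbit pL P0)
  show z (a P0) = a P0
  have := Equiv.congr_fun (hz a ha) P0
  rw [Equiv.Perm.mul_apply, Equiv.Perm.mul_apply, h0] at this
  exact this

theorem small_X : smallWords [Tab.wordX] = true := by decide +kernel

/-- Killing the element of order 13 kills all six generators. -/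
theorem kill {Q : Type*} [Group Q] {v : Th.Gen → Q} (h : Rel12 v)
    (hX : gword (lv v) Tab.wordX = 1) : sub v kL = ⊥ := by
  have hc := relIndex_cert CKill.facts CKill.n_pos CKill.node_zero CKill.rows rfl
    [0, 1, 2, 3, 4, 5, 6, 7, 8, 9, 10, 11] (Tab.relWords.take 20 ++ [Tab.wordX]) kL []
    (by decide +kernel) v (fun w hw => by
      rcases List.mem_append.1 hw with hw | hw
      · exact h w hw
      · rw [List.mem_singleton.1 hw]; exact hX)
  have hcard := card_step hc.1 (card_sub_nil v) hc.2
  refine Subgroup.eq_bot_of_card_eq _ (le_antisymm ?_ (Nat.one_le_iff_ne_zero.2 hcard.2))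
  exact hcard.1.trans (le_of_eq rfl)

/-- the generators other than `t` and `u`, inside `pL` -/
noncomputable def vL (x : Th.Gen) : pL :=
  if hx : enc x ∈ kL then ⟨pv x, lv_enc pv x ▸ lv_mem_sub pv (Or.inl hx)⟩ else 1

theorem gword_vL {w : List ℕ} (hw : ∀ x ∈ w, x < 12) :
    ((gword (lv vL) w : pL) : Equiv.Perm (Fin Tab.perm.n)) = gword (lv pv) w := by
  show pL.subtype (gword (lv vL) w) = _
  rw [gword_map_lv]
  refine gword_congr _ _ fun x hx => ?_
  have hx := hw x hx
  have hv : ∀ y : Th.Gen, y ≠ .t → y ≠ .u → pL.subtype (vL y) = pv y := by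
    intro y h1 h2
    have : enc y ∈ kL := by cases y <;> simp_all [enc]
    simp [vL, this]
  interval_cases x <;> simp [lv, letterVal, dec, hv]

theorem rel12_small : (Tab.relWords.take 20).all (fun w => w.all fun x => x.blt 12) = true := by
  decide +kernel

theorem vL_holds : Rel12 vL := fun w hw => by
  refine Subtype.ext ?_
  rw [gword_vL fun x hx => by
    have := List.all_eq_true.1 (List.all_eq_true.1 rel12_small w hw) x hx
    simpa [Nat.blt, Nat.ble_eq] using this]
  exact (pv_holds.mono (by decide : 20 ≤ 27)) w hw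

theorem wordX_pow : allBelow (fun i =>
    runT Tab.perm.T Tab.perm.L (List.replicate 13 Tab.wordX).flatten i == i) 819 = true := by
  decide +kernel

theorem gword_append {G : Type*} [Group G] (g : ℕ → G) (v w : List ℕ) :
    gword g (v ++ w) = gword g v * gword g w := by simp [gword]

theorem gword_replicate {G : Type*} [Group G] (g : ℕ → G) (n : ℕ) (w : List ℕ) :
    gword g (List.replicate n w).flatten = gword g w ^ n := by
  induction n with
  | zero => simp [gword_nil]
  | succ n ih => rw [List.replicate_succ, List.flatten_cons, gword_append, ih, pow_succ']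

theorem vL_X_pow : gword (lv vL) Tab.wordX ^ 13 = 1 := by
  refine Subtype.ext ?_
  rw [SubmonoidClass.coe_pow, gword_vL (by decide)]
  rw [← gword_replicate, gword_pv (by decide), OneMemClass.coe_one]
  refine inv_eq_one.1 (Equiv.ext fun i => Fin.ext ?_)
  rw [Tab.perm_ok.gword_inv_apply _ (by decide)]
  exact beq_iff_eq.1 ((Model.allBelow_iff _ _).1 wordX_pow i i.2)

theorem simple_pL : IsSimpleGroup pL := by
  have hnt : Nontrivial pL := by
    rw [← Finite.one_lt_card_iff_nontrivial, card_pL]; norm_num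
  refine { eq_bot_or_eq_top_of_normal := fun N hN => ?_ }
  by_cases hne : N = ⊥
  · exact Or.inl hne
  refine Or.inr ?_
  have hinj := Subgroup.subtype_injective pL
  have htr : MulAction.orbit (N.map pL.subtype) P0 = Set.univ := by
    refine transitive_of_normalized (Subgroup.map_subtype_le N) ?_
      ((Subgroup.map_eq_bot_iff_of_injective _ hinj).not.2 hne)
    rintro a ha _ ⟨k, hk, rfl⟩
    exact ⟨⟨a, ha⟩ * k * ⟨a, ha⟩⁻¹, hN.conj_mem k hk ⟨a, ha⟩, rfl⟩
  have hd : 819 ∣ Nat.card N := by
    have h := ncard_orbit_dvd (N.map pL.subtype) P0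
    rw [htr, Set.ncard_univ, Nat.card_fin,
      ← Nat.card_congr (Subgroup.equivMapOfInjective _ _ hinj).toEquiv] at h
    exact h
  have h13 : ¬ 13 ∣ Nat.card (pL ⧸ N) := by
    rintro ⟨d, hd'⟩
    obtain ⟨k, hk⟩ := hd
    have h := N.card_mul_index
    rw [Subgroup.index_eq_card, hd', hk, card_pL] at h
    have : 10647 * (k * d) = 211341312 := by rw [← h]; ring
    omega
  let φ := QuotientGroup.mk' N
  have hv : Rel12 (fun y => φ (vL y)) := fun w hw => by
    rw [← gword_map_lv φ vL w, vL_holds w hw, map_one]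
  have hX : gword (lv fun y => φ (vL y)) Tab.wordX = 1 := by
    rw [← gword_map_lv φ vL]
    have hp : φ (gword (lv vL) Tab.wordX) ^ 13 = 1 := by rw [← map_pow, vL_X_pow, map_one]
    rcases (Nat.dvd_prime (by norm_num)).1 (orderOf_dvd_of_pow_eq_one hp) with h1 | h1
    · exact orderOf_eq_one_iff.1 h1
    · exact absurd (h1 ▸ orderOf_dvd_natCard _) h13
  have hk := kill hv hX
  have hle : pL ≤ N.map pL.subtype := sub_le fun x hx => by
    have hz := lv_mem_sub (fun y => φ (vL y)) (keep := kL) (Or.inl hx)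
    rw [hk, Subgroup.mem_bot, ← map_lv φ vL, QuotientGroup.mk'_apply,
      QuotientGroup.eq_one_iff] at hz
    have hlt : x < 12 := (by decide : ∀ y ∈ kL, y < 12) x hx
    refine ⟨_, hz, ?_⟩
    have := gword_vL (w := [x]) (by simpa using hlt)
    simpa [gword] using this
  rw [eq_top_iff]
  intro a _
  obtain ⟨b, hb, he⟩ := hle a.2
  rwa [← hinj he]

/-- Conjugation by `pH` keeps `pL`. -/
theorem pH_le_normalizer : pH ≤ Subgroup.normalizer (pL : Set (Equiv.Perm (Fin Tab.perm.n))) := by
  refine sub_le fun x hx => ?_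
  by_cases hxL : x ∈ kL
  · exact Subgroup.le_normalizer (lv_mem_sub pv (Or.inl hxL))
  · have hx12 : x = 12 := by simp at hx hxL; omega
    subst hx12
    exact t_mem_normalizer pv_holds

/-- A nontrivial subgroup of `pH` normalised by `pH` contains `pL`. -/
theorem pL_le_of_normalized {N : Subgroup (Equiv.Perm (Fin Tab.perm.n))} (hN : N ≤ pH)
    (hn : Normalizes pH N) (hne : N ≠ ⊥) : pL ≤ N := by
  have := simple_pL
  have hnorm : (N.subgroupOf pL).Normal :=
    ⟨fun m hm a => hn a.1 (pL_le_pH a.2) m.1 hm⟩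
  rcases hnorm.eq_bot_or_eq_top with h | h
  · refine absurd (eq_bot_iff.2 fun z hz => Subgroup.mem_bot.2 (centralizer_pL fun a ha => ?_)) hne
    have hcL : z * a * z⁻¹ * a⁻¹ ∈ pL :=
      mul_mem ((Subgroup.mem_normalizer_iff.1 (pH_le_normalizer (hN hz)) a).1 ha) (inv_mem ha)
    have hcN : z * a * z⁻¹ * a⁻¹ ∈ N := by
      have := hn a (pL_le_pH ha) _ (inv_mem hz)
      have h2 := mul_mem hz this
      simpa [mul_assoc] using h2
    have h1 : (⟨_, hcL⟩ : pL) ∈ N.subgroupOf pL := hcN
    rw [h, Subgroup.mem_bot] at h1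
    have h2 : z * a * z⁻¹ * a⁻¹ = 1 := congrArg Subtype.val h1
    calc z * a = z * a * z⁻¹ * a⁻¹ * (a * z) := by group
      _ = a * z := by rw [h2, one_mul]
  · exact Subgroup.subgroupOf_eq_top.1 h

theorem commutator_pL : ⁅pL, pL⁆ = pL := by
  refine le_antisymm (Subgroup.commutator_le.2 fun a ha b hb => ?_) ?_
  · rw [commutatorElement_def]
    exact mul_mem (mul_mem (mul_mem ha hb) (inv_mem ha)) (inv_mem hb)
  · refine pL_le_of_normalized
      ((Subgroup.commutator_le.2 fun a ha b hb => ?_).trans le_rfl) ?_ ?_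
    · rw [commutatorElement_def]
      exact pL_le_pH (mul_mem (mul_mem (mul_mem ha hb) (inv_mem ha)) (inv_mem hb))
    · intro a ha m hm
      have hmap : ⁅pL, pL⁆.map (MulAut.conj a).toMonoidHom ≤ ⁅pL, pL⁆ := by
        have hL : pL.map (MulAut.conj a).toMonoidHom ≤ pL := by
          rintro _ ⟨l, hl, rfl⟩
          exact (Subgroup.mem_normalizer_iff.1 (pH_le_normalizer ha) l).1 hl
        rw [Subgroup.map_commutator]
        exact Subgroup.commutator_mono hL hL
      exact hmap ⟨m, hm, rfl⟩
    · intro h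
      have hL : pL = ⊥ := eq_bot_iff.2 fun z hz => Subgroup.mem_bot.2 (centralizer_pL fun a ha => by
        have := Subgroup.commutator_mem_commutator hz ha
        rw [h, Subgroup.mem_bot, commutatorElement_eq_one_iff_mul_comm] at this
        exact this)
      have := card_pL
      rw [hL, Subgroup.card_bot] at this
      omega

variable {X : Type*} [Group X]

/-- In a group with the relations, the group generated by the letters `keep` is an image of the
permutation group, provided the latter is large enough. -/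
theorem exists_quotient {v : Th.Gen → X} {keep : List ℕ} {n : ℕ}
    (hle : Nat.card (sub (pairV v) keep) ≤ n ∧ Nat.card (sub (pairV v) keep) ≠ 0)
    (hge : n ≤ Nat.card (sub pv keep)) :
    ∃ q : sub pv keep →* X, q.range = sub v keep ∧
      ∀ (x : ℕ) (h : lv pv x ∈ sub pv keep), lv (pairV v) x ∈ sub (pairV v) keep →
        q ⟨_, h⟩ = lv v x := by
  set U := sub (pairV v) keep with hU
  let f : U →* Equiv.Perm (Fin Tab.perm.n) := (MonoidHom.snd _ _).comp U.subtype
  have hf : f.range = sub pv keep := by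
    rw [MonoidHom.range_comp, Subgroup.range_subtype]
    exact map_sub (MonoidHom.snd _ _) (pairV v) keep
  have : Finite U := Nat.finite_of_card_ne_zero hle.2
  have hinj : Function.Injective f := by
    rw [← MonoidHom.ker_eq_bot_iff]
    apply Subgroup.eq_bot_of_card_eq
    have h1 : Nat.card f.ker * f.ker.index = Nat.card U := f.ker.card_mul_index
    rw [Subgroup.index_ker, hf] at h1
    have h2 : 0 < Nat.card f.ker := Nat.card_pos
    have h3 : 0 < Nat.card (sub pv keep) := Nat.card_pos
    nlinarith [hle.1, hge]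
  let e : U ≃* sub pv keep :=
    (MonoidHom.ofInjective hinj).trans (MulEquiv.subgroupCongr hf)
  let q : sub pv keep →* X := ((MonoidHom.fst _ _).comp U.subtype).comp e.symm.toMonoidHom
  refine ⟨q, ?_, fun x h hx => ?_⟩
  · rw [MonoidHom.range_comp, MonoidHom.range_eq_top.2 (MulEquiv.surjective e.symm),
      ← MonoidHom.range_eq_map, MonoidHom.range_comp, Subgroup.range_subtype, hU]
    exact map_sub (MonoidHom.fst _ _) (pairV v) keep
  · have he : e ⟨_, hx⟩ = ⟨_, h⟩ := Subtype.ext (map_lv (MonoidHom.snd _ _) (pairV v) x)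
    show ((e.symm ⟨_, h⟩ : U) : X × Equiv.Perm (Fin Tab.perm.n)).1 = _
    rw [← he, MulEquiv.symm_apply_apply]
    exact map_lv (MonoidHom.fst _ _) (pairV v) x

/-- A nontrivial `⟨a, b, c, d, e, s⟩` with relations (1) and (2) is the permutation group. -/
theorem equiv_L {v : Th.Gen → X} (h : Rel12 v) (hne : sub v kL ≠ ⊥) :
    Nonempty (pL ≃* sub v kL) := by
  obtain ⟨q, hq, -⟩ := exists_quotient (keep := kL) (card_L_le (pairV_holds (by decide) h))
    card_pL_ge
  have := simple_pL
  have hinj : Function.Injective q := by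
    rw [← MonoidHom.ker_eq_bot_iff]
    refine (IsSimpleGroup.eq_bot_or_eq_top_of_normal q.ker inferInstance).resolve_right fun hk => ?_
    refine hne ?_
    rw [← hq, eq_bot_iff]
    rintro _ ⟨a, rfl⟩
    have : a ∈ q.ker := hk ▸ Subgroup.mem_top a
    exact Subgroup.mem_bot.2 this
  exact ⟨(MonoidHom.ofInjective hinj).trans (MulEquiv.subgroupCongr hq)⟩

/-- With `t` as well: `⟨a, b, c, d, e, s, t⟩` is the permutation group, compatibly with `L`. -/
theorem equiv_H {v : Th.Gen → X} (h : Rel123 v) (hne : sub v kL ≠ ⊥) :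
    ∃ e : pH ≃* sub v kH, (pL.subgroupOf pH).map e.toMonoidHom = (sub v kL).subgroupOf (sub v kH) := by
  obtain ⟨q, hq, hqx⟩ := exists_quotient (keep := kH) (card_H_le (pairV_holds le_rfl h))
    card_pH_ge
  have hmap : (pL.subgroupOf pH).map q = sub v kL := by
    have hx : ∀ x ∈ kL, ∃ hx : lv pv x ∈ pH, q ⟨_, hx⟩ = lv v x := fun x hx =>
      have hxH : x ∈ kH := List.mem_append_left [12] hx
      ⟨lv_mem_sub pv (Or.inl hxH), hqx x _ (lv_mem_sub _ (Or.inl hxH))⟩
    apply le_antisymm
    · rw [Subgroup.map_le_iff_le_comap]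
      have hle : pL ≤ ((sub v kL).comap q).map pH.subtype := sub_le fun x hxm => by
        obtain ⟨hx', he⟩ := hx x hxm
        exact ⟨⟨_, hx'⟩, by
          show q ⟨_, hx'⟩ ∈ sub v kL
          rw [he]; exact lv_mem_sub v (Or.inl hxm), rfl⟩
      intro a ha
      obtain ⟨b, hb, he⟩ := hle ha
      rwa [← Subgroup.subtype_injective _ he]
    · refine sub_le fun x hxm => ?_
      obtain ⟨hx', he⟩ := hx x hxm
      exact ⟨⟨_, hx'⟩, lv_mem_sub pv (Or.inl hxm), he⟩
  have hinj : Function.Injective q := by
    rw [← MonoidHom.ker_eq_bot_iff]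
    by_contra hk
    refine hne ?_
    rw [← hmap, Subgroup.map_eq_bot_iff]
    intro a ha
    have hle := pL_le_of_normalized (N := q.ker.map pH.subtype) (Subgroup.map_subtype_le _) (by
      rintro b hb _ ⟨k, hk', rfl⟩
      exact ⟨⟨b, hb⟩ * k * ⟨b, hb⟩⁻¹,
        (inferInstance : q.ker.Normal).conj_mem k hk' ⟨b, hb⟩, rfl⟩)
      ((Subgroup.map_eq_bot_iff_of_injective _ (Subgroup.subtype_injective _)).not.2 hk)
    obtain ⟨b, hb, he⟩ := hle ha
    rwa [← Subgroup.subtype_injective _ he]
  refine ⟨(MonoidHom.ofInjective hinj).trans (MulEquiv.subgroupCongr hq), ?_⟩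
  refine Subgroup.map_injective (Subgroup.subtype_injective _) ?_
  rw [Subgroup.map_map, Subgroup.subgroupOf_map_subtype,
    inf_eq_left.2 (sub_mono v (by decide))]
  exact hmap

end CfsgLib.ThH99
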