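import Cfsg.Agent.CosetEnum.Present
import Cfsg.Agent.Eq.Def_Spor_Th
import Cfsg.Agent.ThH99.Table

/-!
Letters for the Thompson group: `a, A, b, B, c, C, d, D, e, E, s, S, t, T, u, U` are `0..15`
(capitals are inverses, so the formal inverse is `x ^^^ 1`), and the first 27 relators as words.
-/

set_option autoImplicit false

namespace CfsgLib.ThH99

open CfsgLib.CosetEnum Cfsg.Spor

/-- the letter of a generator -/
def enc : Th.Gen → ℕ
  | .a => 0
  | .b => 2
  | .c => 4
  | .d => 6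
  | .e => 8
  | .s => 10
  | .t => 12
  | .u => 14

/-- the generator of a letter -/
def dec : ℕ → Th.Gen
  | 0 | 1 => .a
  | 2 | 3 => .b
  | 4 | 5 => .c
  | 6 | 7 => .d
  | 8 | 9 => .e
  | 10 | 11 => .s
  | 12 | 13 => .t
  | _ => .u

/-- formal inverse -/
abbrev iv (x : ℕ) : ℕ := x ^^^ 1

theorem iv_ge {x : ℕ} {n : ℕ} (hn : n % 2 = 0) (hx : ¬ x < n) : ¬ iv x < n := by
  intro h
  apply hx
  have h2 : (x ^^^ 1) / 2 = x / 2 := by
    rw [← Nat.shiftRight_one, Nat.shiftRight_xor_distrib, Nat.shiftRight_one]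
    simp
  unfold iv at h
  omega

theorem iv_iv (x : ℕ) : iv (iv x) = x := by simp [iv, Nat.xor_assoc]

variable {X : Type*} [Group X]

/-- the values of the letters; letters from 16 on mean 1 -/
def lv (v : Th.Gen → X) : ℕ → X :=
  letterVal 16 fun x => if x % 2 = 0 then v (dec x) else (v (dec x))⁻¹

theorem lv_iv (v : Th.Gen → X) (x : ℕ) : lv v (iv x) = (lv v x)⁻¹ := by
  refine letterVal_inv 16 _ iv (fun y hy => ?_) (fun y hy => iv_ge rfl hy) x
  interval_cases y <;> simp [iv, dec]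

theorem lv_enc (v : Th.Gen → X) (x : Th.Gen) : lv v (enc x) = v x := by
  cases x <;> rfl

theorem map_lv {Y : Type*} [Group Y] (f : X →* Y) (v : Th.Gen → X) (x : ℕ) :
    f (lv v x) = lv (fun y => f (v y)) x := by
  simp only [lv, letterVal]
  by_cases h : x < 16 <;> by_cases h' : x % 2 = 0 <;> simp [h, h']

theorem lift_eq_gword (v : Th.Gen → X) (r : FreeGroup Th.Gen) :
    FreeGroup.lift v r = gword (lv v) (encWord enc iv r) :=
  map_eq_gword enc iv (FreeGroup.lift v) (lv v)
    (fun a => by rw [FreeGroup.lift_apply_of, lv_enc])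
    (fun a => by rw [FreeGroup.lift_apply_of, lv_iv, lv_enc]) r

theorem words_eq : ((Th.extra.take 27).map fun r => encWord enc iv r) = Tab.relWords := by
  decide +kernel

theorem extra_length : 27 ≤ Th.extra.length := by decide +kernel

/-- The first `k` relator words take the value 1. -/
def Holds (k : ℕ) (v : Th.Gen → X) : Prop := ∀ w ∈ Tab.relWords.take k, gword (lv v) w = 1

theorem Holds.mono {j k : ℕ} {v : Th.Gen → X} (h : Holds k v) (hjk : j ≤ k) : Holds j v :=
  fun w hw => h w ((List.take_prefix_take_left hjk).subset hw)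

theorem holds_of_lift {k : ℕ} (hk : k ≤ 27) {v : Th.Gen → X}
    (h : ∀ n, (hn : n < Th.extra.length) → n < k → FreeGroup.lift v Th.extra[n] = 1) :
    Holds k v := by
  intro w hw
  rw [← words_eq, ← List.map_take, List.take_take, Nat.min_eq_left hk] at hw
  obtain ⟨r, hr, rfl⟩ := List.mem_map.1 hw
  rw [← lift_eq_gword]
  obtain ⟨n, hn, rfl⟩ := List.getElem_of_mem hr
  rw [List.length_take] at hn
  rw [List.getElem_take]
  exact h n (by omega) (by omega)

/-- relations (1): unitary group -/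
abbrev Rel1 (v : Th.Gen → X) : Prop := Holds 14 v
/-- relations (1) and (2): triality group -/
abbrev Rel12 (v : Th.Gen → X) : Prop := Holds 20 v
/-- relations (1), (2) and (3): triality group extended by 3 -/
abbrev Rel123 (v : Th.Gen → X) : Prop := Holds 27 v

/-- the subgroup generated by some letters -/
def sub (v : Th.Gen → X) (keep : List ℕ) : Subgroup X :=
  Subgroup.closure {z | ∃ x ∈ keep, lv v x = z}

theorem lv_mem_sub (v : Th.Gen → X) {keep : List ℕ} {x : ℕ}
    (h : x ∈ keep ∨ iv x ∈ keep) : lv v x ∈ sub v keep := by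
  rcases h with h | h
  · exact Subgroup.subset_closure ⟨x, h, rfl⟩
  · rw [← inv_inv (lv v x), ← lv_iv]
    exact inv_mem (Subgroup.subset_closure ⟨_, h, rfl⟩)

theorem sub_le {v : Th.Gen → X} {keep : List ℕ} {K : Subgroup X}
    (h : ∀ x ∈ keep, lv v x ∈ K) : sub v keep ≤ K := by
  rw [sub, Subgroup.closure_le]
  rintro _ ⟨x, hx, rfl⟩
  exact h x hx

theorem sub_mono (v : Th.Gen → X) {k₁ k₂ : List ℕ} (h : k₁ ⊆ k₂) : sub v k₁ ≤ sub v k₂ :=
  sub_le fun x hx => lv_mem_sub v (Or.inl (h hx))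

theorem map_sub {Y : Type*} [Group Y] (f : X →* Y) (v : Th.Gen → X) (keep : List ℕ) :
    (sub v keep).map f = sub (fun y => f (v y)) keep := by
  rw [sub, MonoidHom.map_closure, sub]
  congr 1
  ext z
  constructor
  · rintro ⟨_, ⟨x, hx, rfl⟩, rfl⟩
    exact ⟨x, hx, (map_lv f v x).symm⟩
  · rintro ⟨x, hx, rfl⟩
    exact ⟨_, ⟨x, hx, rfl⟩, map_lv f v x⟩

theorem gword_map_lv {Y : Type*} [Group Y] (f : X →* Y) (v : Th.Gen → X) (w : List ℕ) :
    f (gword (lv v) w) = gword (lv fun y => f (v y)) w := by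
  rw [gword_map]
  exact gword_congr _ _ fun x _ => map_lv f v x

/-- letters `a, b, c, d, e` -/
abbrev kU : List ℕ := [0, 2, 4, 6, 8]
/-- letters `a, c, d, e` -/
abbrev kI : List ℕ := [0, 4, 6, 8]
/-- letters `d, e, s` -/
abbrev kD : List ℕ := [6, 8, 10]
/-- letters `a, c, d, e, s` -/
abbrev kP : List ℕ := [0, 4, 6, 8, 10]
/-- letters `a, b, c, d, e, s` -/
abbrev kL : List ℕ := [0, 2, 4, 6, 8, 10]
/-- letters `a, b, c, d, e, s, t` -/
abbrev kH : List ℕ := [0, 2, 4, 6, 8, 10, 12]

end CfsgLib.ThH99
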